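import Groth.Agent.SekSuwaFiltLib.Pts
import Groth.Agent.TorsVecLib.UnitCocycle
import Groth.Agent.TorsVecLib.Points
import Groth.Agent.NormDescTorsLib.Torsor

/-! Kummer coordinates of `μ_N`-torsors over a local ring. -/

set_option autoImplicit false
set_option maxHeartbeats 800000
set_option backward.isDefEq.respectTransparency false
set_option backward.isDefEq.respectTransparency.types false

universe u

open CategoryTheory CategoryTheory.Limits AlgebraicGeometry SekSuwa SekSuwaMonoLib MonoidalCategory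
  CartesianMonoidalCategory
open scoped TensorProduct MonObj
open Groth.Agent

noncomputable section

namespace SekSuwaFiltLib

variable {R : Type u} [CommRing R] [IsLocalRing R] {N : ℕ} [NeZero N]

theorem isoSpec_inv_appTop (X : Scheme.{u}) [IsAffine X] :
    X.isoSpec.inv.appTop = (Scheme.ΓSpecIso Γ(X, ⊤)).inv := by
  rw [← cancel_mono X.isoSpec.hom.appTop, ← Scheme.Hom.comp_appTop, Iso.hom_inv_id, Scheme.Hom.id_appTop,
    Scheme.isoSpec_hom, Scheme.toSpecΓ_appTop, Iso.inv_hom_id]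

theorem appTop_inv {A B : CommRingCat.{u}} (φ : A ⟶ B) (a : A) :
    (Spec.map φ).appTop ((Scheme.ΓSpecIso A).inv a) = (Scheme.ΓSpecIso B).inv (φ a) :=
  congr($(Scheme.ΓSpecIso_inv_naturality φ) a).symm

theorem toAff_appTop {Y : Scheme.{u}} {A : CommRingCat.{u}} (φ : A ⟶ Γ(Y, ⊤)) (a : A) :
    (SekSuwaGen.toAff φ).appTop ((Scheme.ΓSpecIso A).inv a) = φ a :=
  congr($(SekSuwaGen.ψ_toAff φ) a)

theorem exists_coord (Q' : Over (Spec (CommRingCat.of R))) (b' : AlgGrp.Action (Red.diag R (ZMod N)) Q')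
    (hQ' : NonAbH1.IsTorsorFor Scheme.fppfPrecoverage b') :
    ∃ (u : Rˣ) (Y : ∀ (T : Over (Spec (CommRingCat.of R))), (T ⟶ Q') → Γ(T.left, ⊤)),
      (∀ (T T' : Over (Spec (CommRingCat.of R))) (m : T' ⟶ T) (q : T ⟶ Q'), Y T' (m ≫ q) = m.left.appTop (Y T q)) ∧
      (∀ (T : Over (Spec (CommRingCat.of R))) (g : T ⟶ Red.diag R (ZMod N)) (q : T ⟶ Q'),
        Y T (lift g q ≫ b'.act) = chi g * Y T q) ∧
      (∀ (T : Over (Spec (CommRingCat.of R))) (q : T ⟶ Q'), Y T q ^ N = cst T.hom u) := by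
  haveI := (SekSuwaGen.finite_flat_diag (R := R) (N := N)).1
  haveI := (SekSuwaGen.finite_flat_diag (R := R) (N := N)).2
  obtain ⟨hfin, hflat, hsurj⟩ := NormDescTorsLib.finite_flat_surjective b' hQ'
  haveI := hfin; haveI := hflat; haveI := hsurj
  haveI : IsAffine Q'.left := isAffine_of_isAffineHom Q'.hom
  let B := Γ(Q'.left, ⊤)
  letI : Algebra R B := (cst Q'.hom).toAlgebra
  have hst : Spec.map (CommRingCat.ofHom (algebraMap R B)) = Q'.left.isoSpec.inv ≫ Q'.hom := by
    rw [← cancel_epi Q'.left.isoSpec.hom, Iso.hom_inv_id_assoc]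
    exact SekSuwaGen.eq_toAff Q'.hom
  haveI : Module.FaithfullyFlat R B := by
    refine RingHom.faithfullyFlat_algebraMap_iff.1 ((flat_and_surjective_SpecMap_iff (CommRingCat.ofHom (algebraMap R B))).1 ?_)
    rw [hst]
    exact ⟨inferInstance, inferInstance⟩
  let j : Spec (CommRingCat.of R) ⟶ Spec (CommRingCat.of R) := 𝟙 _
  let p : TorsVec.testObj j B ⟶ Q' := Over.homMk Q'.left.isoSpec.inv (by
    change Q'.left.isoSpec.inv ≫ Q'.hom = Spec.map _ ≫ 𝟙 _
    rw [Category.comp_id, hst])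
  obtain ⟨g, hg, hc⟩ := TorsVec.exists_cocycle j b' hQ'.1 p
  let z : B ⊗[R] B := (Scheme.ΓSpecIso (CommRingCat.of (B ⊗[R] B))).hom (chi g)
  have hz : (Scheme.ΓSpecIso (CommRingCat.of (B ⊗[R] B))).inv z = chi g := by simp [z]
  have hzN : z ^ N = 1 := by
    apply (ConcreteCategory.bijective_of_isIso (Scheme.ΓSpecIso (CommRingCat.of (B ⊗[R] B))).inv).1
    rw [map_pow, hz, chi_pow, map_one]
  have hins : ∀ φ : B ⊗[R] B →ₐ[R] B ⊗[R] (B ⊗[R] B),
      chi (TorsVec.testMap j φ ≫ g) = (Scheme.ΓSpecIso (CommRingCat.of (B ⊗[R] (B ⊗[R] B)))).inv (φ z) := by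
    intro φ
    rw [chi_comp, ← hz]
    exact appTop_inv (CommRingCat.ofHom φ.toRingHom) z
  have hzc : TorsVec.ins23 (A := R) (B := B) z * TorsVec.ins12 (A := R) (B := B) z = TorsVec.ins13 (A := R) (B := B) z := by
    haveI : IsAffine (TorsVec.testObj j (B ⊗[R] (B ⊗[R] B))).left := isAffine_Spec _
    apply (ConcreteCategory.bijective_of_isIso (Scheme.ΓSpecIso (CommRingCat.of (B ⊗[R] (B ⊗[R] B)))).inv).1
    rw [map_mul, ← hins, ← hins, ← hins, ← chi_mul, hc]
  have hzu : IsUnit z := (isUnit_pow_iff (NeZero.ne N)).1 (hzN ▸ isUnit_one)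
  obtain ⟨zc, hzc'⟩ := hzu
  have hspan := TorsVec.span_splitting_eq_top zc (by rw [hzc']; exact hzc)
  obtain ⟨x, ⟨y, y', hy, hx⟩, hxu⟩ : ∃ x ∈ {x : R | ∃ m n : B, (1 : B) ⊗ₜ[R] m = (zc : B ⊗[R] B) * (m ⊗ₜ 1) ∧
      algebraMap R B x = m * n}, IsUnit x := by
    by_contra hh
    simp only [not_exists, not_and] at hh
    exact (IsLocalRing.maximalIdeal.isMaximal R).ne_top
      (eq_top_iff.mpr (hspan ▸ Ideal.span_le.mpr fun a ha => hh a ha))
  rw [hzc'] at hy
  have hyu : IsUnit y := isUnit_of_mul_isUnit_left (hx ▸ hxu.map _)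
  obtain ⟨u, hu⟩ := ((Algebra.IsEffective.of_faithfullyFlat (R := R) (S := B)) (y ^ N)).1 (by
    have e : (1 : B) ⊗ₜ[R] (y ^ N) = (y ^ N) ⊗ₜ[R] (1 : B) := by
      have := congrArg (· ^ N) hy
      rw [mul_pow, hzN, one_mul, Algebra.TensorProduct.tmul_pow, Algebra.TensorProduct.tmul_pow, one_pow] at this
      exact this
    rw [Algebra.TensorProduct.includeLeftSubRight_apply, e, sub_self])
  change algebraMap R B u = y ^ N at hu
  have huu : IsUnit u := by
    by_contra hn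
    have h1 : algebraMap R B u ∈ (IsLocalRing.maximalIdeal R).map (algebraMap R B) := Ideal.mem_map_of_mem _ hn
    rw [hu] at h1
    have h2 := Ideal.eq_top_of_isUnit_mem _ h1 (hyu.pow N)
    have h3 := Ideal.comap_map_eq_self_of_faithfullyFlat (B := B) (IsLocalRing.maximalIdeal R)
    rw [h2, Ideal.comap_top] at h3
    exact (IsLocalRing.maximalIdeal.isMaximal R).ne_top h3.symm
  refine ⟨huu.unit, fun T q => q.left.appTop y, fun T T' m q => ?_, fun T g' q => ?_, fun T q => ?_⟩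
  · change (m.left ≫ q.left).appTop y = _
    rw [Scheme.Hom.comp_appTop]
    rfl
  · letI : Algebra R Γ(T.left, ⊤) := (cst T.hom).toAlgebra
    let φ : ∀ q : T ⟶ Q', B →ₐ[R] Γ(T.left, ⊤) := fun q =>
      { q.left.appTop.hom with commutes' := fun r => (cst_over q r).symm }
    let q' : T ⟶ Q' := lift g' q ≫ b'.act
    let Φ : B ⊗[R] B →ₐ[R] Γ(T.left, ⊤) := Algebra.TensorProduct.lift (φ q) (φ q') fun _ _ => Commute.all _ _
    let m : T ⟶ TorsVec.testObj j (B ⊗[R] B) := Over.homMk (SekSuwaGen.toAff (CommRingCat.ofHom Φ.toRingHom)) (by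
      change SekSuwaGen.toAff _ ≫ Spec.map (CommRingCat.ofHom (algebraMap R (B ⊗[R] B))) ≫ 𝟙 _ = T.hom
      rw [Category.comp_id, SekSuwaGen.toAff_comp, ← SekSuwaGen.eq_toAff T.hom]
      exact congrArg SekSuwaGen.toAff (CommRingCat.hom_ext Φ.comp_algebraMap))
    have hpt : ∀ (i : B →ₐ[R] B ⊗[R] B) (r : T ⟶ Q'), (∀ c, Φ (i c) = φ r c) → m ≫ TorsVec.testMap j i ≫ p = r := by
      intro i r hir
      refine Over.OverMorphism.ext (ext_of_isAffine (CommRingCat.hom_ext (RingHom.ext fun c => ?_)))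
      change (SekSuwaGen.toAff (CommRingCat.ofHom Φ.toRingHom) ≫ Spec.map (CommRingCat.ofHom i.toRingHom) ≫
        Q'.left.isoSpec.inv).appTop c = r.left.appTop c
      rw [Scheme.Hom.comp_appTop, Scheme.Hom.comp_appTop, CommRingCat.comp_apply, CommRingCat.comp_apply,
        isoSpec_inv_appTop]
      erw [appTop_inv, toAff_appTop]
      exact hir c
    have hL : ∀ c, Φ (TorsVec.insL c) = φ q c := fun c => by simp [Φ]
    have hR : ∀ c, Φ (TorsVec.insR c) = φ q' c := fun c => by simp [Φ]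
    have hmg : m ≫ g = g' := by
      refine TorsVec.smulPt_injective b' hQ'.1 q ?_
      have := congrArg (m ≫ ·) hg
      rw [TorsVec.comp_smulPt, hpt _ q hL, hpt _ q' hR] at this
      exact this
    have e1 : chi g' = Φ z := by
      rw [← hmg, chi_comp, ← hz]
      exact toAff_appTop (CommRingCat.ofHom Φ.toRingHom) z
    have e2 := congrArg Φ hy
    rw [map_mul, ← e1] at e2
    change φ q' y = chi g' * φ q y
    rw [← hR, ← hL]
    exact e2
  · change q.left.appTop y ^ N = _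
    rw [← map_pow, ← hu, IsUnit.unit_spec]
    exact (cst_over q u).symm

end SekSuwaFiltLib
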