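import Groth.Agent.SekSuwaFiltLib.Pts
import Groth.Prelude.Def_NonAbH2
import Groth.Prelude.Def_ChGrp
import Groth.Agent.S14694

/-! The torsor under `G_{λ,N}` of the equation `P(x) = d`. -/

set_option autoImplicit false
set_option maxHeartbeats 800000
set_option backward.isDefEq.respectTransparency false
set_option backward.isDefEq.respectTransparency.types false

universe u

open CategoryTheory CategoryTheory.Limits AlgebraicGeometry SekSuwa SekSuwaMonoLib MonoidalCategory
  CartesianMonoidalCategory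
open scoped TensorProduct MonObj

noncomputable section

namespace SekSuwaFiltLib

variable {R : Type u} [CommRing R] {lam : R} {N : ℕ} (h : DivCond lam N) (d : R)

theorem psi_law {C : Type*} [CommRing C] [Algebra R C] (a b : C) :
    Polynomial.aeval (a + b + algebraMap R C lam * a * b) (psiPoly lam N h) =
      Polynomial.aeval a (psiPoly lam N h) + Polynomial.aeval b (psiPoly lam N h) +
        algebraMap R C lam ^ N * Polynomial.aeval a (psiPoly lam N h) * Polynomial.aeval b (psiPoly lam N h) := by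
  have e := congrArg (MvPolynomial.aeval (R := R) ![a, b]) (psiPoly_cocycle h)
  simpa [← Polynomial.aeval_algHom_apply, mul_assoc] using e

theorem tv_injective {T : Over (Spec (CommRingCat.of R))} {g g' : T ⟶ GK R lam N h}
    (e : rv (B := AK R lam N h) g AK.t = rv (B := AK R lam N h) g' AK.t) : g = g' := by
  refine rv_injective (B := AK R lam N h) ?_
  letI : Algebra R Γ(T.left, ⊤) := (cst T.hom).toAlgebra
  let φ : AK R lam N h →ₐ[R] Γ(T.left, ⊤) := { rv (B := AK R lam N h) g with commutes' := rv_algebraMap g }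
  let φ' : AK R lam N h →ₐ[R] Γ(T.left, ⊤) := { rv (B := AK R lam N h) g' with commutes' := rv_algebraMap g' }
  have e1 : (1 + lam • AK.t : AK R lam N h) * AK.inv = 1 := by
    have := congrArg (AK.mkHom R lam N h) (A.u_mul_inv (R := R) (lam := lam))
    rw [map_mul, map_one, A.u, map_add, map_one, map_smul] at this
    exact this
  have hu : φ (1 + lam • AK.t) = φ' (1 + lam • AK.t) := by
    rw [map_add, map_add, map_one, map_one, map_smul, map_smul]
    exact congrArg (fun z => 1 + lam • z) e
  have hf := congrArg φ e1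
  have hg := congrArg φ' e1
  rw [map_mul, map_one] at hf hg
  rw [← hu] at hg
  have : φ = φ' := AK.algHom_ext e (left_inv_eq_right_inv ((mul_comm _ _).trans hf) hg)
  exact congrArg AlgHom.toRingHom this

theorem exists_tv_eq (hN : 0 < N) {T : Over (Spec (CommRingCat.of R))} (s : Γ(T.left, ⊤))
    (hs : (psiPoly lam N h).eval₂ (cst T.hom) s = 0) :
    ∃ g : T ⟶ GK R lam N h, rv (B := AK R lam N h) g AK.t = s := by
  letI : Algebra R Γ(T.left, ⊤) := (cst T.hom).toAlgebra
  have hs' : Polynomial.aeval s (psiPoly lam N h) = 0 := hs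
  have hu : (1 + lam • s) * (1 + lam • s) ^ (N - 1) = 1 := by
    rw [← pow_succ', Nat.sub_add_cancel hN, Algebra.smul_def]
    have := aeval_psiPoly h s
    rw [hs', mul_zero] at this
    exact sub_eq_zero.1 this.symm
  let φ : AK R lam N h →ₐ[R] Γ(T.left, ⊤) :=
    Ideal.Quotient.liftₐ (kerIdeal lam N h) (A.lift R lam s _ hu) (by
      intro z hz
      obtain ⟨c, rfl⟩ := Ideal.mem_span_singleton'.mp hz
      rw [map_mul, kerGen, ← Polynomial.aeval_algHom_apply, A.lift_t, hs', mul_zero])
  obtain ⟨g, hg⟩ := exists_rv_eq (B := AK R lam N h) (T := T) φ.toRingHom φ.commutes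
  refine ⟨g, ?_⟩
  rw [hg]
  exact A.lift_t s _ hu

/-- The polynomial `P - d`. -/
abbrev qPoly : Polynomial R := psiPoly lam N h - Polynomial.C d

/-- The scheme `P(x) = d`. -/
abbrev qSch : Over (Spec (CommRingCat.of R)) := spR (AdjoinRoot (qPoly h d))

/-- The coordinate of a point. -/
def xv {T : Over (Spec (CommRingCat.of R))} (q : T ⟶ qSch h d) : Γ(T.left, ⊤) :=
  rv (B := AdjoinRoot (qPoly h d)) q (AdjoinRoot.root _)

theorem xv_comp {T T' : Over (Spec (CommRingCat.of R))} (m : T' ⟶ T) (q : T ⟶ qSch h d) :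
    xv h d (m ≫ q) = m.left.appTop (xv h d q) := rv_comp m q _

theorem rv_comp_algebraMap {T : Over (Spec (CommRingCat.of R))} {B : Type u} [CommRing B] [Algebra R B]
    (g : T ⟶ spR B) : (rv g).comp (algebraMap R B) = cst T.hom := RingHom.ext (rv_algebraMap g)

theorem xv_root {T : Over (Spec (CommRingCat.of R))} (q : T ⟶ qSch h d) :
    (psiPoly lam N h).eval₂ (cst T.hom) (xv h d q) = cst T.hom d := by
  have e := congrArg (rv (B := AdjoinRoot (qPoly h d)) q) (AdjoinRoot.eval₂_root (qPoly h d))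
  rw [map_zero, Polynomial.hom_eval₂, Polynomial.eval₂_sub, Polynomial.eval₂_C, sub_eq_zero] at e
  rwa [show (rv (B := AdjoinRoot (qPoly h d)) q).comp (AdjoinRoot.of (qPoly h d)) = cst T.hom from
    rv_comp_algebraMap q] at e

theorem xv_injective {T : Over (Spec (CommRingCat.of R))} : Function.Injective (xv (T := T) h d) := by
  intro q q' e
  refine rv_injective (B := AdjoinRoot (qPoly h d)) (RingHom.ext fun z => ?_)
  obtain ⟨F, rfl⟩ := AdjoinRoot.mk_surjective z
  have key : ∀ q : T ⟶ qSch h d, rv (B := AdjoinRoot (qPoly h d)) q (AdjoinRoot.mk _ F) =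
      F.eval₂ (cst T.hom) (xv h d q) := by
    intro q
    rw [← AdjoinRoot.aeval_eq, Polynomial.aeval_def, Polynomial.hom_eval₂, rv_comp_algebraMap]
    rfl
  rw [key, key, e]

theorem exists_xv_eq {T : Over (Spec (CommRingCat.of R))} (s : Γ(T.left, ⊤))
    (hs : (psiPoly lam N h).eval₂ (cst T.hom) s = cst T.hom d) : ∃ q : T ⟶ qSch h d, xv h d q = s := by
  let φ : AdjoinRoot (qPoly h d) →+* Γ(T.left, ⊤) := AdjoinRoot.lift (cst T.hom) s (by
    rw [Polynomial.eval₂_sub, Polynomial.eval₂_C, hs, sub_self])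
  obtain ⟨q, hq⟩ := exists_rv_eq (B := AdjoinRoot (qPoly h d)) (T := T) φ (fun r => AdjoinRoot.lift_of _)
  exact ⟨q, by rw [xv, hq]; exact AdjoinRoot.lift_root _⟩

theorem exists_action : ∃ b : AlgGrp.Action (GK R lam N h) (qSch h d),
    ∀ {T : Over (Spec (CommRingCat.of R))} (g : T ⟶ GK R lam N h) (q : T ⟶ qSch h d),
      xv h d (lift g q ≫ b.act) = rv (B := AK R lam N h) g AK.t + xv h d q +
        cst T.hom lam * rv (B := AK R lam N h) g AK.t * xv h d q := by
  let W := GK R lam N h ⊗ qSch h d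
  let g₀ : W ⟶ GK R lam N h := fst _ _
  let q₀ : W ⟶ qSch h d := snd _ _
  obtain ⟨act, hact⟩ := exists_xv_eq h d (T := W) (rv (B := AK R lam N h) g₀ AK.t + xv h d q₀ +
      cst W.hom lam * rv (B := AK R lam N h) g₀ AK.t * xv h d q₀) (by
    letI : Algebra R Γ(W.left, ⊤) := (cst W.hom).toAlgebra
    have e := psi_law h (rv (B := AK R lam N h) g₀ AK.t) (xv h d q₀)
    have e1 : Polynomial.aeval (rv (B := AK R lam N h) g₀ AK.t) (psiPoly lam N h) = 0 := tv_root g₀
    rw [e1, zero_add, mul_zero, zero_mul, add_zero] at e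
    exact e.trans (xv_root h d q₀))
  have hpt : ∀ {T : Over (Spec (CommRingCat.of R))} (g : T ⟶ GK R lam N h) (q : T ⟶ qSch h d),
      xv h d (lift g q ≫ act) = rv (B := AK R lam N h) g AK.t + xv h d q +
        cst T.hom lam * rv (B := AK R lam N h) g AK.t * xv h d q := by
    intro T g q
    rw [xv_comp, hact, map_add, map_add, map_mul, map_mul, ← rv_comp (B := AK R lam N h), ← xv_comp, ← cst_over,
      show lift g q ≫ g₀ = g from lift_fst _ _, show lift g q ≫ q₀ = q from lift_snd _ _]
  refine ⟨⟨act, ?_, ?_⟩, hpt⟩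
  · refine xv_injective h d ?_
    have e : η[GK R lam N h] ▷ qSch h d = lift (1 : 𝟙_ _ ⊗ qSch h d ⟶ GK R lam N h) (snd _ _) := by
      refine CartesianMonoidalCategory.hom_ext _ _ ?_ ?_
      · rw [whiskerRight_fst, lift_fst, Hom.one_def, toUnit_unique (fst (𝟙_ _) _) (toUnit _)]
      · rw [whiskerRight_snd, lift_snd]
    rw [e, hpt, tv_one, leftUnitor_hom]
    ring
  · refine xv_injective h d ?_
    let W' := (GK R lam N h ⊗ GK R lam N h) ⊗ qSch h d
    let a : W' ⟶ GK R lam N h := fst _ _ ≫ fst _ _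
    let b : W' ⟶ GK R lam N h := fst _ _ ≫ snd _ _
    let q : W' ⟶ qSch h d := snd _ _
    have e1 : μ[GK R lam N h] ▷ qSch h d = lift (a * b) q := by
      refine CartesianMonoidalCategory.hom_ext _ _ ?_ ?_
      · rw [whiskerRight_fst, lift_fst, MonObj.mul_eq_mul, MonObj.comp_mul]
      · rw [whiskerRight_snd, lift_snd]
    have e2 : (α_ (GK R lam N h) (GK R lam N h) (qSch h d)).hom ≫ GK R lam N h ◁ act = lift a (lift b q ≫ act) := by
      refine CartesianMonoidalCategory.hom_ext _ _ ?_ ?_
      · rw [Category.assoc, whiskerLeft_fst, associator_hom_fst, lift_fst]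
      · rw [Category.assoc, whiskerLeft_snd, lift_snd, ← Category.assoc]
        congr 1
        refine CartesianMonoidalCategory.hom_ext _ _ ?_ ?_ <;> simp [b, q]
    rw [← Category.assoc (α_ _ _ _).hom, e1, e2, hpt, hpt, hpt, tv_mul]
    ring

theorem isPseudoTorsor (hN : 0 < N) (hd : IsUnit (1 + lam ^ N * d)) (b : AlgGrp.Action (GK R lam N h) (qSch h d))
    (hb : ∀ {T : Over (Spec (CommRingCat.of R))} (g : T ⟶ GK R lam N h) (q : T ⟶ qSch h d),
      xv h d (lift g q ≫ b.act) = rv (B := AK R lam N h) g AK.t + xv h d q +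
        cst T.hom lam * rv (B := AK R lam N h) g AK.t * xv h d q) :
    NonAbH1.IsPseudoTorsorSch b := by
  let V := qSch h d ⊗ qSch h d
  let x₁ : V ⟶ qSch h d := fst _ _
  let x₂ : V ⟶ qSch h d := snd _ _
  letI : Algebra R Γ(V.left, ⊤) := (cst V.hom).toAlgebra
  have hr₁ : Polynomial.aeval (xv h d x₁) (psiPoly lam N h) = algebraMap R Γ(V.left, ⊤) d := xv_root h d x₁
  have hr₂ : Polynomial.aeval (xv h d x₂) (psiPoly lam N h) = algebraMap R Γ(V.left, ⊤) d := xv_root h d x₂
  have hdU : IsUnit (1 + algebraMap R Γ(V.left, ⊤) lam ^ N * algebraMap R Γ(V.left, ⊤) d) := by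
    have := hd.map (algebraMap R Γ(V.left, ⊤))
    rwa [map_add, map_one, map_mul, map_pow] at this
  have hu : IsUnit (1 + algebraMap R Γ(V.left, ⊤) lam * xv h d x₂) := by
    refine (isUnit_pow_iff hN.ne').1 ?_
    have := aeval_psiPoly h (xv h d x₂)
    rw [hr₂, map_pow] at this
    rw [show (1 + algebraMap R Γ(V.left, ⊤) lam * xv h d x₂) ^ N =
      1 + algebraMap R Γ(V.left, ⊤) lam ^ N * algebraMap R Γ(V.left, ⊤) d by linear_combination -this]
    exact hdU
  obtain ⟨w, hw⟩ := hu.exists_right_inv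
  have ht : (xv h d x₁ - xv h d x₂) * w + xv h d x₂ +
      algebraMap R Γ(V.left, ⊤) lam * ((xv h d x₁ - xv h d x₂) * w) * xv h d x₂ = xv h d x₁ := by
    linear_combination (xv h d x₁ - xv h d x₂) * hw
  obtain ⟨g, hg⟩ := exists_tv_eq h hN (T := V) ((xv h d x₁ - xv h d x₂) * w) (by
    have e := psi_law h ((xv h d x₁ - xv h d x₂) * w) (xv h d x₂)
    rw [ht, hr₁, hr₂] at e
    refine hdU.mul_right_cancel ?_
    rw [zero_mul]
    change Polynomial.aeval ((xv h d x₁ - xv h d x₂) * w) (psiPoly lam N h) * _ = 0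
    linear_combination -e)
  refine ⟨lift g x₂, ?_, ?_⟩
  · refine CartesianMonoidalCategory.hom_ext _ _ ?_ ?_
    · rw [Category.assoc, lift_fst, Category.id_comp]
      refine tv_injective h ?_
      let W := GK R lam N h ⊗ qSch h d
      rw [rv_comp (B := AK R lam N h), hg, map_mul, map_sub, ← xv_comp, ← xv_comp,
        show lift b.act (snd _ _) ≫ x₁ = lift (fst _ _) (snd _ _) ≫ b.act by
          rw [lift_fst, lift_fst_snd, Category.id_comp],
        show lift b.act (snd _ _) ≫ x₂ = snd _ _ from lift_snd _ _, hb]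
      have hw' := congrArg (lift b.act (snd (GK R lam N h) (qSch h d))).left.appTop hw
      rw [map_one, map_mul, map_add, map_one, map_mul, ← xv_comp,
        show lift b.act (snd _ _) ≫ x₂ = snd _ _ from lift_snd _ _] at hw'
      change (1 + (lift b.act (snd (GK R lam N h) (qSch h d))).left.appTop (cst V.hom lam) * _) * _ = 1 at hw'
      rw [← cst_over] at hw'
      linear_combination (rv (B := AK R lam N h) (fst (GK R lam N h) (qSch h d)) AK.t) * hw'
    · rw [Category.assoc, lift_snd, Category.id_comp]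
      exact lift_snd _ _
  · refine CartesianMonoidalCategory.hom_ext _ _ ?_ ?_
    · rw [Category.assoc, lift_fst, Category.id_comp]
      refine xv_injective h d ?_
      rw [hb, hg]
      exact ht
    · rw [Category.assoc, lift_snd, lift_snd, Category.id_comp]

theorem hom_props [Nontrivial R] (hN : 0 < N) :
    Flat (qSch h d).hom ∧ Surjective (qSch h d).hom ∧ LocallyOfFinitePresentation (qSch h d).hom := by
  have hm : (qPoly h d).Monic := by
    refine (Groth.Agent.S14694.monic_psi h hN).sub_of_left (lt_of_le_of_lt Polynomial.degree_C_le ?_)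
    rw [Polynomial.degree_eq_natDegree (Groth.Agent.S14694.monic_psi h hN).ne_zero,
      Groth.Agent.S14694.natDegree_psi h hN]
    exact_mod_cast hN
  have hdeg : (qPoly h d).natDegree = N := by
    rw [Polynomial.natDegree_sub_C, Groth.Agent.S14694.natDegree_psi h hN]
  haveI := hm.free_adjoinRoot
  haveI := hm.finite_adjoinRoot
  haveI : Nontrivial (AdjoinRoot (qPoly h d)) := by
    refine ⟨1, 0, fun h1 => ?_⟩
    have h2 : AdjoinRoot.mk (qPoly h d) 1 = 0 := by rw [map_one]; exact h1
    exact hm.not_dvd_of_natDegree_lt one_ne_zero (by rw [Polynomial.natDegree_one, hdeg]; exact hN)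
      (AdjoinRoot.mk_eq_zero.1 h2)
  have hfs := (flat_and_surjective_SpecMap_iff (CommRingCat.ofHom (algebraMap R (AdjoinRoot (qPoly h d))))).2
    (RingHom.faithfullyFlat_algebraMap_iff.2 inferInstance)
  refine ⟨hfs.1, hfs.2, ?_⟩
  exact (HasRingHomProperty.Spec_iff (P := @LocallyOfFinitePresentation)).2
    (RingHom.finitePresentation_algebraMap.2 inferInstance)

theorem isTorsor [Nontrivial R] (hN : 0 < N) (hd : IsUnit (1 + lam ^ N * d))
    (b : AlgGrp.Action (GK R lam N h) (qSch h d))
    (hb : ∀ {T : Over (Spec (CommRingCat.of R))} (g : T ⟶ GK R lam N h) (q : T ⟶ qSch h d),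
      xv h d (lift g q ≫ b.act) = rv (B := AK R lam N h) g AK.t + xv h d q +
        cst T.hom lam * rv (B := AK R lam N h) g AK.t * xv h d q) :
    NonAbH1.IsTorsorFor Scheme.fppfPrecoverage b := by
  obtain ⟨h1, h2, h3⟩ := hom_props h d hN
  refine ⟨isPseudoTorsor h d hN hd b hb, Presieve.singleton (qSch h d).hom,
    (qSch h d).hom.singleton_mem_fppfPrecoverage, ?_⟩
  rintro S' g ⟨⟩
  exact ⟨𝟙 _, Category.id_comp _⟩

end SekSuwaFiltLib
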