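import Groth.Agent.SekSuwaFiltLib.Alg
import Groth.Agent.SekSuwaFiltLib.Torsor
import Groth.Agent.SekSuwaFiltLib.Kummer
import Groth.Agent.SekSuwaH1Lib.Points
import Groth.Agent.SekSuwaTors.Main
import Groth.Agent.TorsFpqcLib.Basic
import Groth.Prelude.Def_ActBC

/-! A `G_{λ,N}`-torsor with constant push forward to `μ_N` is constant. -/

set_option autoImplicit false
set_option maxHeartbeats 1000000
set_option backward.isDefEq.respectTransparency false
set_option backward.isDefEq.respectTransparency.types false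

universe u

open CategoryTheory CategoryTheory.Limits AlgebraicGeometry SekSuwa SekSuwaMonoLib MonoidalCategory
  CartesianMonoidalCategory
open scoped TensorProduct MonObj
open Groth.Agent

noncomputable section

namespace SekSuwaFiltLib

variable {R : Type u} [CommRing R] {lam : R} {N : ℕ} {h : DivCond lam N} {X : Scheme.{u}}
  (f : X ⟶ Spec (CommRingCat.of R)) {P : Over X}

/-- The base changed group. -/
abbrev GX (h : DivCond lam N) : Over X := Red.bc f (GK R lam N h)

/-- The coordinate of a point of the base changed group. -/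
def tvX {T : Over X} (g : T ⟶ GX f h) : Γ(T.left, ⊤) :=
  rv (B := AK R lam N h) ((PowEtCentralLib.adjEquiv f T).symm g) AK.t

theorem cst_map {T : Over X} (r : R) : cst ((Over.map f).obj T).hom r = cst (T.hom ≫ f) r := rfl

theorem exists_fun [IsLocalRing R] [NeZero N] (a : AlgGrp.Action (GX f h) P)
    (P' : Over X) (a' : AlgGrp.Action (Red.bc f (Red.diag R (ZMod N))) P')
    (hpush : NonAbH1.IsPushforwardAlongSch ((Over.pullback f).map (alphaN R lam N h)) a a')
    (Q' : Over (Spec (CommRingCat.of R))) (b' : AlgGrp.Action (Red.diag R (ZMod N)) Q')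
    (hQ' : NonAbH1.IsTorsorFor Scheme.fppfPrecoverage b')
    (i' : P' ≅ Red.bc f Q')
    (hi' : a'.act ≫ i'.hom = (Red.bc f (Red.diag R (ZMod N)) ◁ i'.hom) ≫
      Functor.LaxMonoidal.μ (Over.pullback f) (Red.diag R (ZMod N)) Q' ≫ (Over.pullback f).map b'.act) :
    ∃ (u : Rˣ) (Y : ∀ (T : Over X), (T ⟶ P) → Γ(T.left, ⊤)),
      (∀ (T T' : Over X) (m : T' ⟶ T) (x : T ⟶ P), Y T' (m ≫ x) = m.left.appTop (Y T x)) ∧
      (∀ (T : Over X) (g : T ⟶ GX f h) (x : T ⟶ P),
        Y T (lift g x ≫ a.act) = (1 + cst (T.hom ≫ f) lam * tvX f g) * Y T x) ∧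
      (∀ (T : Over X) (x : T ⟶ P), Y T x ^ N = cst (T.hom ≫ f) u) := by
  obtain ⟨u, Y₀, hnat, hequiv, hpow⟩ := exists_coord Q' b' hQ'
  obtain ⟨φ, hφ⟩ := hpush
  let π : P ⟶ Red.bc f Q' := φ ≫ i'.hom
  let e := fun (T : Over X) (Z : Over (Spec (CommRingCat.of R))) => ((Over.mapPullbackAdj f).homEquiv T Z).symm
  refine ⟨u, fun T x => Y₀ ((Over.map f).obj T) (e T Q' (x ≫ π)), fun T T' m x => ?_, fun T g x => ?_,
    fun T x => hpow _ _⟩
  · change Y₀ _ (((Over.mapPullbackAdj f).homEquiv T' Q').symm ((m ≫ x) ≫ π)) = _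
    rw [Category.assoc]
    rw [Adjunction.homEquiv_naturality_left_symm, hnat]
    rfl
  · have h1 : (lift g x ≫ a.act) ≫ π = lift (g ≫ (Over.pullback f).map (alphaN R lam N h)) (x ≫ π) ≫ (b'.bc f).act := by
      simp only [π, Category.assoc]
      rw [reassoc_of% hφ, hi', AlgGrp.Action.bc_act, ← Category.assoc, comp_lift, lift_whiskerLeft_assoc,
        lift_fst_assoc, lift_snd_assoc]
      simp only [Category.assoc]
    have h2 : e T Q' ((lift g x ≫ a.act) ≫ π) =
        lift (e T _ g ≫ alphaN R lam N h) (e T Q' (x ≫ π)) ≫ b'.act := by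
      rw [Equiv.symm_apply_eq, h1, ← AlgGrp.Action.lift_homEquiv_bc_act f b', Equiv.apply_symm_apply,
        Adjunction.homEquiv_naturality_right, Equiv.apply_symm_apply]
    change Y₀ _ _ = _
    rw [h2, hequiv, chi_alphaN]
    rfl

theorem section_ext {Z : Over (Spec (CommRingCat.of R))} (𝒰 : Scheme.OpenCover.{u} Z.left) (z₁ z₂ : Γ(Z.left, ⊤))
    (hz : ∀ i, (𝒰.f i).appTop z₁ = (𝒰.f i).appTop z₂) : z₁ = z₂ := by
  letI : Algebra R Γ(Z.left, ⊤) := (cst Z.hom).toAlgebra
  obtain ⟨g₁, hg₁⟩ := exists_rv_eq (B := Polynomial R) (T := Z) (Polynomial.aeval z₁).toRingHom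
    (fun r => (Polynomial.aeval z₁).commutes r)
  obtain ⟨g₂, hg₂⟩ := exists_rv_eq (B := Polynomial R) (T := Z) (Polynomial.aeval z₂).toRingHom
    (fun r => (Polynomial.aeval z₂).commutes r)
  have e : g₁ = g₂ := by
    refine Over.OverMorphism.ext (𝒰.hom_ext _ _ fun i => ?_)
    let m : Over.mk (𝒰.f i ≫ Z.hom) ⟶ Z := Over.homMk (𝒰.f i) rfl
    have : m ≫ g₁ = m ≫ g₂ := by
      refine rv_injective (B := Polynomial R) (Polynomial.ringHom_ext (fun r => ?_) ?_)
      · exact (rv_algebraMap (B := Polynomial R) (m ≫ g₁) r).trans (rv_algebraMap (B := Polynomial R) (m ≫ g₂) r).symm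
      · rw [rv_comp (B := Polynomial R), rv_comp (B := Polynomial R), hg₁, hg₂]
        simp only [AlgHom.toRingHom_eq_coe, RingHom.coe_coe, Polynomial.aeval_X]
        exact hz i
    exact congrArg CommaMorphism.left this
  have := congrArg (fun g => rv (B := Polynomial R) g Polynomial.X) e
  simp only [hg₁, hg₂, AlgHom.toRingHom_eq_coe, RingHom.coe_coe, Polynomial.aeval_X] at this
  exact this

variable [IsDomain R] [IsDiscreteValuationRing R]

theorem chart_flat {A : Type u} [CommRing A] [Algebra R A] (j : Spec (CommRingCat.of A) ⟶ X) [IsOpenImmersion j]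
    (hj : j ≫ f = Spec.map (CommRingCat.ofHom (algebraMap R A))) [Flat f] : Module.Flat R A := by
  haveI : Flat (Spec.map (CommRingCat.ofHom (algebraMap R A))) := by rw [← hj]; infer_instance
  have hh : (CommRingCat.ofHom (algebraMap R A)).hom.Flat := (HasRingHomProperty.Spec_iff (P := @Flat)).1 inferInstance
  exact RingHom.flat_algebraMap_iff.1 hh

theorem chart_reduced {ϖ : R} (hirr : Irreducible ϖ) {A : Type u} [CommRing A] [Algebra R A]
    (j : Spec (CommRingCat.of A) ⟶ X) [IsOpenImmersion j]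
    (hj : j ≫ f = Spec.map (CommRingCat.ofHom (algebraMap R A)))
    [AlgebraicGeometry.IsReduced (pullback f (Spec.map (CommRingCat.ofHom (IsLocalRing.residue R))))] (hN : 0 < N)
    (s : A) (hs : algebraMap R A ϖ ∣ s ^ N) : algebraMap R A ϖ ∣ s := by
  let m := IsLocalRing.maximalIdeal R
  let k := R ⧸ m
  let ρ : Spec (CommRingCat.of k) ⟶ Spec (CommRingCat.of R) := Spec.map (CommRingCat.ofHom (algebraMap R k))
  haveI : AlgebraicGeometry.IsReduced (pullback f ρ) :=
    inferInstanceAs (AlgebraicGeometry.IsReduced (pullback f (Spec.map (CommRingCat.ofHom (IsLocalRing.residue R)))))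
  let l : pullback (Spec.map (CommRingCat.ofHom (algebraMap R A))) ρ ⟶ pullback f ρ :=
    pullback.map _ _ _ _ j (𝟙 _) (𝟙 _) (by rw [Category.comp_id, hj]) (by simp)
  haveI : IsOpenImmersion l := inferInstance
  haveI : AlgebraicGeometry.IsReduced (pullback (Spec.map (CommRingCat.ofHom (algebraMap R A))) ρ) :=
    isReduced_of_isOpenImmersion l
  haveI : AlgebraicGeometry.IsReduced (Spec (CommRingCat.of (A ⊗[R] k))) :=
    isReduced_of_isOpenImmersion (pullbackSpecIso R A k).inv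
  haveI : _root_.IsReduced (A ⊗[R] k) := (affine_isReduced_iff (CommRingCat.of (A ⊗[R] k))).1 inferInstance
  have hm : m = Ideal.span {ϖ} := (IsDiscreteValuationRing.irreducible_iff_uniformizer _).1 hirr
  have h0 : (algebraMap R A ϖ) ⊗ₜ[R] (1 : k) = 0 := by
    rw [Algebra.algebraMap_eq_smul_one, TensorProduct.smul_tmul, Algebra.smul_def, mul_one,
      show algebraMap R k ϖ = 0 from Ideal.Quotient.eq_zero_iff_mem.2 (hm ▸ Ideal.mem_span_singleton_self ϖ),
      TensorProduct.tmul_zero]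
  obtain ⟨c, hc⟩ := hs
  have h1 : (s ⊗ₜ[R] (1 : k)) ^ N = 0 := by
    rw [Algebra.TensorProduct.tmul_pow, one_pow, hc, ← mul_one (1 : k), ← Algebra.TensorProduct.tmul_mul_tmul, h0,
      zero_mul]
  have h2 : s ⊗ₜ[R] (1 : k) = 0 := IsNilpotent.eq_zero ⟨N, h1⟩
  let J := Ideal.span {algebraMap R A ϖ}
  let π : A ⊗[R] k →ₐ[R] A ⧸ J := Algebra.TensorProduct.lift (Ideal.Quotient.mkₐ R J)
    (Ideal.Quotient.liftₐ m (Algebra.ofId R (A ⧸ J)) (fun a ha => by
      rw [hm, Ideal.mem_span_singleton] at ha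
      obtain ⟨b, rfl⟩ := ha
      rw [map_mul]
      refine mul_eq_zero_of_left ?_ _
      exact Ideal.Quotient.eq_zero_iff_mem.2 (Ideal.mem_span_singleton_self _))) fun _ _ => Commute.all _ _
  have h3 := congrArg π h2
  rw [map_zero, Algebra.TensorProduct.lift_tmul, map_one, mul_one] at h3
  exact Ideal.mem_span_singleton.1 (Ideal.Quotient.eq_zero_iff_mem.1 h3)

variable (Y : ∀ (T : Over X), (T ⟶ P) → Γ(T.left, ⊤)) {u : Rˣ} (a : AlgGrp.Action (GX f h) P)

/-- The properties of the function. -/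
structure IsFun (u : Rˣ) : Prop where
  nat : ∀ (T T' : Over X) (m : T' ⟶ T) (x : T ⟶ P), Y T' (m ≫ x) = m.left.appTop (Y T x)
  equiv : ∀ (T : Over X) (g : T ⟶ GX f h) (x : T ⟶ P),
    Y T (lift g x ≫ a.act) = (1 + cst (T.hom ≫ f) lam * tvX f g) * Y T x
  pow : ∀ (T : Over X) (x : T ⟶ P), Y T x ^ N = cst (T.hom ≫ f) u

theorem chart_approx [IsFinite P.hom] [Flat P.hom] [Surjective P.hom] (hY : IsFun f Y a u)
    (hp : NonAbH1.IsPseudoTorsorSch a) {A : Type u} [CommRing A] [Algebra R A]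
    (j : Spec (CommRingCat.of A) ⟶ X) (hj : j ≫ f = Spec.map (CommRingCat.ofHom (algebraMap R A))) :
    ∃ w : A, algebraMap R A lam ^ N ∣ w ^ N - algebraMap R A u ∧
      ∀ c : R, algebraMap R A lam ∣ algebraMap R A c * w - 1 →
        ∃ s : Γ(pullback P.hom j, ⊤), cst ((pullback.snd P.hom j ≫ j) ≫ f) lam * s =
          cst ((pullback.snd P.hom j ≫ j) ≫ f) c * (pullback.fst P.hom j).appTop (Y P (𝟙 P)) - 1 := by
  let Z := pullback P.hom j
  haveI : IsAffine (Spec (CommRingCat.of A)) := inferInstance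
  haveI : IsAffine Z := isAffine_of_isAffineHom (pullback.snd P.hom j)
  let B := Γ(Z, ⊤)
  letI : Algebra A B := (cst (pullback.snd P.hom j)).toAlgebra
  have hst : Spec.map (CommRingCat.ofHom (algebraMap A B)) = Z.isoSpec.inv ≫ pullback.snd P.hom j := by
    rw [← cancel_epi Z.isoSpec.hom, Iso.hom_inv_id_assoc]
    exact SekSuwaGen.eq_toAff (pullback.snd P.hom j)
  haveI : Module.FaithfullyFlat A B := by
    refine RingHom.faithfullyFlat_algebraMap_iff.1 ((flat_and_surjective_SpecMap_iff (CommRingCat.ofHom (algebraMap A B))).1 ?_)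
    rw [hst]
    exact ⟨inferInstance, inferInstance⟩
  let p : TorsVec.testObj j B ⟶ P := Over.homMk (Z.isoSpec.inv ≫ pullback.fst P.hom j) (by
    change (Z.isoSpec.inv ≫ pullback.fst P.hom j) ≫ P.hom = Spec.map _ ≫ j
    rw [Category.assoc, pullback.condition, hst, Category.assoc])
  let y₀ : B := (pullback.fst P.hom j).appTop (Y P (𝟙 P))
  have hYp : Y _ p = (Scheme.ΓSpecIso (CommRingCat.of B)).inv y₀ := by
    rw [← Category.comp_id p, hY.nat]
    change (Z.isoSpec.inv ≫ pullback.fst P.hom j).appTop _ = _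
    rw [Scheme.Hom.comp_appTop, CommRingCat.comp_apply, isoSpec_inv_appTop]
    rfl
  have hcst : ∀ (C : Type u) [CommRing C] [Algebra A C] (r : R),
      cst ((TorsVec.testObj j C).hom ≫ f) r =
        (Scheme.ΓSpecIso (CommRingCat.of C)).inv (algebraMap A C (algebraMap R A r)) := by
    intro C _ _ r
    change cst ((Spec.map (CommRingCat.ofHom (algebraMap A C)) ≫ j) ≫ f) r = _
    rw [Category.assoc, hj, ← Spec.map_comp, ← CommRingCat.ofHom_comp]
    have := appTop_specMap (CommRingCat.ofHom ((algebraMap A C).comp (algebraMap R A))) (𝟙 _) r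
    rw [Category.id_comp] at this
    exact this
  obtain ⟨g, hg⟩ := TorsVec.exists_smulPt a hp (TorsVec.testMap j TorsVec.insL ≫ p)
    (TorsVec.testMap j TorsVec.insR ≫ p)
  let τ : B ⊗[A] B := (Scheme.ΓSpecIso (CommRingCat.of (B ⊗[A] B))).hom (tvX f g)
  have hτ : (Scheme.ΓSpecIso (CommRingCat.of (B ⊗[A] B))).inv τ = tvX f g := by simp [τ]
  have hrel : (1 : B) ⊗ₜ[A] y₀ - y₀ ⊗ₜ 1 =
      algebraMap A (B ⊗[A] B) (algebraMap R A lam) * (τ * (y₀ ⊗ₜ 1)) := by
    have e := congrArg (Y _) hg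
    rw [TorsVec.smulPt, hY.equiv, hY.nat, hY.nat, hYp] at e
    rw [hcst, ← hτ] at e
    change (1 + _ * _) * (Spec.map (CommRingCat.ofHom (TorsVec.insL (A := A) (B := B)).toRingHom)).appTop _ =
      (Spec.map (CommRingCat.ofHom (TorsVec.insR (A := A) (B := B)).toRingHom)).appTop _ at e
    rw [appTop_inv, appTop_inv] at e
    have e' := congrArg (Scheme.ΓSpecIso (CommRingCat.of (B ⊗[A] B))).hom.hom e
    simp only [map_add, map_mul, map_one, Iso.inv_hom_id_apply] at e'
    change (1 + algebraMap A (B ⊗[A] B) (algebraMap R A lam) * τ) * (y₀ ⊗ₜ 1) = (1 : B) ⊗ₜ[A] y₀ at e'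
    linear_combination -e'
  obtain ⟨w, e, he⟩ := SekSuwaTors.exists_lift_mod (algebraMap R A lam) y₀ (τ * (y₀ ⊗ₜ 1)) hrel
  refine ⟨w, ?_, fun c hc => ?_⟩
  · have hpowB : y₀ ^ N = algebraMap A B (algebraMap R A u) := by
      have := hY.pow _ p
      rw [hYp, hcst] at this
      exact (ConcreteCategory.bijective_of_isIso (Scheme.ΓSpecIso (CommRingCat.of B)).inv).1 ((map_pow _ _ _).trans this)
    letI : Algebra R B := ((algebraMap A B).comp (algebraMap R A)).toAlgebra
    obtain ⟨s, hs⟩ := pow_add_mul h (algebraMap A B w) e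
    have hy : algebraMap A B w + algebraMap R B lam * e = y₀ := by
      change algebraMap A B w + algebraMap A B (algebraMap R A lam) * e = y₀
      rw [← he]; ring
    rw [hy, hpowB] at hs
    have hmem : algebraMap R A (u : R) - w ^ N ∈
        ((Ideal.span ({algebraMap R A lam ^ N} : Set A)).map (algebraMap A B)).comap (algebraMap A B) := by
      rw [Ideal.mem_comap, Ideal.map_span, Set.image_singleton, Ideal.mem_span_singleton, map_sub, map_pow, map_pow, hs]
      exact ⟨s, by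
        change algebraMap A B w ^ N + algebraMap A B (algebraMap R A lam) ^ N * s - _ = _
        ring⟩
    rw [Ideal.comap_map_eq_self_of_faithfullyFlat, Ideal.mem_span_singleton] at hmem
    exact dvd_sub_comm.1 hmem
  · obtain ⟨z, hz⟩ := hc
    refine ⟨algebraMap A B (algebraMap R A c) * e + algebraMap A B z, ?_⟩
    have hc2 : ∀ r, cst ((pullback.snd P.hom j ≫ j) ≫ f) r = algebraMap A B (algebraMap R A r) := by
      intro r
      rw [Category.assoc, hj]
      exact appTop_specMap (CommRingCat.ofHom (algebraMap R A)) (pullback.snd P.hom j) r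
    rw [hc2, hc2]
    have hz' := congrArg (algebraMap A B) hz
    rw [map_sub, map_one, map_mul, map_mul] at hz'
    change algebraMap A B (algebraMap R A lam) * (algebraMap A B (algebraMap R A c) * e + algebraMap A B z) =
      algebraMap A B (algebraMap R A c) * y₀ - 1
    linear_combination -hz' - algebraMap A B (algebraMap R A c) * he

theorem result (p : ℕ) [Fact p.Prime] [CharP (IsLocalRing.ResidueField R) p]
    [PerfectField (IsLocalRing.ResidueField R)] (n : ℕ) (hn : N = p ^ n)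
    [Flat f] [Surjective f]
    [AlgebraicGeometry.IsReduced (pullback f (Spec.map (CommRingCat.ofHom (IsLocalRing.residue R))))]
    (a : AlgGrp.Action (GX f h) P) (hP : NonAbH1.IsTorsorFor Scheme.fppfPrecoverage a)
    (P' : Over X) (a' : AlgGrp.Action (Red.bc f (Red.diag R (ZMod N))) P')
    (hpush : NonAbH1.IsPushforwardAlongSch ((Over.pullback f).map (alphaN R lam N h)) a a')
    (Q' : Over (Spec (CommRingCat.of R))) (b' : AlgGrp.Action (Red.diag R (ZMod N)) Q')
    (hQ' : NonAbH1.IsTorsorFor Scheme.fppfPrecoverage b')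
    (i' : P' ≅ Red.bc f Q')
    (hi' : a'.act ≫ i'.hom = (Red.bc f (Red.diag R (ZMod N)) ◁ i'.hom) ≫
      Functor.LaxMonoidal.μ (Over.pullback f) (Red.diag R (ZMod N)) Q' ≫ (Over.pullback f).map b'.act) :
    ∃ (Q : Over (Spec (CommRingCat.of R))) (b : AlgGrp.Action (GK R lam N h) Q)
      (i : P ≅ Red.bc f Q), NonAbH1.IsTorsorFor Scheme.fppfPrecoverage b ∧
      a.act ≫ i.hom = (Red.bc f (GK R lam N h) ◁ i.hom) ≫
        Functor.LaxMonoidal.μ (Over.pullback f) (GK R lam N h) Q ≫ (Over.pullback f).map b.act := by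
  have hN : 0 < N := hn ▸ pow_pos (Fact.out : p.Prime).pos n
  haveI : NeZero N := ⟨hN.ne'⟩
  have hlam : lam ≠ 0 := nonZeroDivisors.ne_zero h.nzd
  obtain ⟨ϖ, hirr⟩ := IsDiscreteValuationRing.exists_irreducible R
  obtain ⟨e, v, hv⟩ := IsDiscreteValuationRing.eq_unit_mul_pow_irreducible hlam hirr
  haveI := (SekSuwaGen.finite_flat_GK hN h).1
  haveI := (SekSuwaGen.finite_flat_GK hN h).2
  haveI : IsFinite (GX f h).hom := inferInstanceAs (IsFinite (pullback.snd _ f))
  haveI : Flat (GX f h).hom := inferInstanceAs (Flat (pullback.snd _ f))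
  obtain ⟨hPf, hPflat, hPs⟩ := NormDescTorsLib.finite_flat_surjective a hP
  haveI := hPf; haveI := hPflat; haveI := hPs
  obtain ⟨u, Y, hY1, hY2, hY3⟩ := exists_fun f a P' a' hpush Q' b' hQ' i' hi'
  have hY : IsFun f Y a u := ⟨hY1, hY2, hY3⟩
  let 𝒰 := X.affineCover
  have hch : ∀ i : 𝒰.I₀, ∃ (A : CommRingCat.{u}) (j : Spec A ⟶ X) (e : Spec A ≅ 𝒰.X i), IsOpenImmersion j ∧
      j = e.hom ≫ 𝒰.f i := by
    intro i
    haveI : IsAffine (𝒰.X i) := Scheme.isAffine_affineCover X i
    exact ⟨Γ(𝒰.X i, ⊤), (𝒰.X i).isoSpec.inv ≫ 𝒰.f i, (𝒰.X i).isoSpec.symm, inferInstance, rfl⟩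
  choose A j ej hjo hje using hch
  let algA : ∀ i, Algebra R (A i) := fun i => (Spec.preimage (j i ≫ f)).hom.toAlgebra
  have hjf : ∀ i, j i ≫ f = Spec.map (CommRingCat.ofHom (@algebraMap R (A i) _ _ (algA i))) := fun i =>
    (Spec.map_preimage (j i ≫ f)).symm
  -- a chart meeting the special fibre
  obtain ⟨x₀, hx₀⟩ := (inferInstance : Surjective f).surj (IsLocalRing.closedPoint R)
  obtain ⟨i₀, z₀, hz₀⟩ : ∃ i z, j i z = x₀ := by
    obtain ⟨i, z, hz⟩ := 𝒰.exists_eq x₀
    exact ⟨i, (ej i).inv z, by rw [hje i, ← Scheme.Hom.comp_apply, Iso.inv_hom_id_assoc]; exact hz⟩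
  obtain ⟨c, dd, hdd⟩ : ∃ c : Rˣ, lam ^ N ∣ (u : R) * (c : R) ^ N - 1 := by
    letI := algA i₀
    haveI := hjo i₀
    haveI : Module.Flat R (A i₀) := chart_flat f (j i₀) (hjf i₀)
    obtain ⟨w, hw, -⟩ := chart_approx f Y a hY hP.1 (j i₀) (hjf i₀)
    refine exists_unit (A := A i₀) p n hirr hv hn h ?_ (chart_reduced f hirr (j i₀) (hjf i₀) hN) u w hw
    intro hun
    have h1 : (Spec.map (CommRingCat.ofHom (algebraMap R (A i₀)))) z₀ = IsLocalRing.closedPoint R := by
      rw [← hjf i₀, Scheme.Hom.comp_apply]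
      exact (congrArg f hz₀).trans hx₀
    have h2 : ϖ ∈ ((Spec.map (CommRingCat.ofHom (algebraMap R (A i₀)))) z₀).asIdeal := by
      rw [h1]
      exact (IsLocalRing.mem_maximalIdeal _).2 hirr.not_isUnit
    exact z₀.isPrime.ne_top (Ideal.eq_top_of_isUnit_mem _ h2 hun)
  have hdu : IsUnit (1 + lam ^ N * dd) := by
    rw [← hdd, add_sub_cancel]
    exact u.isUnit.mul (c.isUnit.pow N)
  obtain ⟨b, hb⟩ := exists_action h dd
  let P₀ : Over (Spec (CommRingCat.of R)) := (Over.map f).obj P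
  let y : Γ(P₀.left, ⊤) := Y P (𝟙 P)
  haveI : Flat P₀.hom := inferInstanceAs (Flat (P.hom ≫ f))
  let 𝒱 : Scheme.OpenCover.{u} P₀.left := 𝒰.pullback₁ P.hom
  let Pc : 𝒱.I₀ → Over (Spec (CommRingCat.of R)) := fun i => Over.mk (𝒱.f i ≫ P.hom ≫ f)
  have hPc : ∀ i, Flat (Pc i).hom := fun i => inferInstanceAs (Flat (𝒱.f i ≫ P.hom ≫ f))
  let inc : ∀ i, Pc i ⟶ P₀ := fun i => Over.homMk (𝒱.f i) rfl
  let yi : ∀ i, Γ((Pc i).left, ⊤) := fun i => (inc i).left.appTop y
  have hlocal : ∀ i, ∃ q : Pc i ⟶ qSch h dd,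
      cst (Pc i).hom lam * xv h dd q = cst (Pc i).hom c * yi i - 1 := by
    intro i
    letI := algA i
    haveI := hjo i
    haveI : Module.Flat R (A i) := chart_flat f (j i) (hjf i)
    obtain ⟨w, hw, hs⟩ := chart_approx f Y a hY hP.1 (j i) (hjf i)
    have hcw : algebraMap R (A i) lam ∣ algebraMap R (A i) c * w - 1 := by
      refine congr_one hirr.ne_zero hv hN h (chart_reduced f hirr (j i) (hjf i) hN) _ ?_
      obtain ⟨z, hz⟩ := hw
      refine ⟨algebraMap R (A i) c ^ N * z + algebraMap R (A i) dd, ?_⟩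
      have e1 := congrArg (algebraMap R (A i)) hdd
      rw [map_sub, map_one, map_mul, map_mul, map_pow, map_pow] at e1
      linear_combination algebraMap R (A i) c ^ N * hz + e1
    obtain ⟨s, hs'⟩ := hs c hcw
    let m : pullback P.hom (𝒰.f i) ⟶ pullback P.hom (j i) :=
      pullback.lift (pullback.fst _ _) (pullback.snd _ _ ≫ (ej i).inv)
        (by rw [Category.assoc, hje i, Iso.inv_hom_id_assoc]; exact pullback.condition)
    have hm : m ≫ (pullback.snd P.hom (j i) ≫ j i) ≫ f = (Pc i).hom := by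
      change m ≫ (pullback.snd P.hom (j i) ≫ j i) ≫ f = pullback.fst P.hom (𝒰.f i) ≫ P.hom ≫ f
      simp only [m, Category.assoc, pullback.lift_snd_assoc]
      rw [hje i, Category.assoc, Iso.inv_hom_id_assoc, pullback.condition_assoc]
    have hc' : ∀ r, cst (Pc i).hom r = m.appTop (cst ((pullback.snd P.hom (j i) ≫ j i) ≫ f) r) := by
      intro r
      conv_lhs => rw [← hm]
      change (m ≫ _).appTop _ = _
      rw [Scheme.Hom.comp_appTop]
      rfl
    let y' : Γ((Pc i).left, ⊤) := yi i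
    let mT : Γ(pullback P.hom (j i), ⊤) →+* Γ((Pc i).left, ⊤) := m.appTop.hom
    have hc'' : ∀ r, cst (Pc i).hom r = mT (cst ((pullback.snd P.hom (j i) ≫ j i) ≫ f) r) := hc'
    have hy' : y' = m.appTop ((pullback.fst P.hom (j i)).appTop y) := by
      rw [← CommRingCat.comp_apply, ← Scheme.Hom.comp_appTop, pullback.lift_fst]
      rfl
    have hs'' : cst (Pc i).hom lam * mT s = cst (Pc i).hom c * y' - 1 := by
      rw [hc'', hc'', hy', ← map_mul, hs', map_sub, map_mul, map_one]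
      rfl
    obtain ⟨q, hq⟩ := exists_xv_eq h dd (T := Pc i) (mT s) (by
      letI : Algebra R Γ((Pc i).left, ⊤) := (cst (Pc i).hom).toAlgebra
      haveI := hPc i
      refine cancel_cst (Pc i).hom h.pow_nzd ?_
      have e1 := aeval_psiPoly h (mT s)
      change cst (Pc i).hom (lam ^ N) * (psiPoly lam N h).eval₂ (cst (Pc i).hom) (mT s) =
        (1 + cst (Pc i).hom lam * mT s) ^ N - 1 at e1
      rw [e1, hs'', add_sub_cancel, mul_pow]
      have e2 : y' ^ N = cst (Pc i).hom u := by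
        change ((inc i).left.appTop (Y P (𝟙 P))) ^ N = _
        rw [← map_pow, hY.pow P (𝟙 P)]
        exact (cst_over (inc i) _).symm
      have e3 := congrArg (cst (Pc i).hom) hdd
      rw [map_sub, map_one, map_mul, map_mul, map_pow] at e3
      rw [e2]
      linear_combination e3)
    exact ⟨q, by rw [hq]; exact hs''⟩
  choose q hq using hlocal
  have hagree : ∀ i k, pullback.fst (𝒱.f i) (𝒱.f k) ≫ (q i).left = pullback.snd (𝒱.f i) (𝒱.f k) ≫ (q k).left := by
    intro i k
    let T : Over (Spec (CommRingCat.of R)) := Over.mk (pullback.fst (𝒱.f i) (𝒱.f k) ≫ (Pc i).hom)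
    let m₁ : T ⟶ Pc i := Over.homMk (pullback.fst (𝒱.f i) (𝒱.f k)) rfl
    let m₂ : T ⟶ Pc k := Over.homMk (pullback.snd (𝒱.f i) (𝒱.f k)) (by
      change pullback.snd (𝒱.f i) (𝒱.f k) ≫ 𝒱.f k ≫ P.hom ≫ f = pullback.fst (𝒱.f i) (𝒱.f k) ≫ 𝒱.f i ≫ P.hom ≫ f
      rw [pullback.condition_assoc])
    haveI : Flat T.hom := inferInstanceAs (Flat (pullback.fst (𝒱.f i) (𝒱.f k) ≫ 𝒱.f i ≫ P.hom ≫ f))
    have : m₁ ≫ q i = m₂ ≫ q k := by
      refine xv_injective h dd (cancel_cst T.hom h.nzd ?_)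
      have e1 := congrArg m₁.left.appTop (hq i)
      have e2 := congrArg m₂.left.appTop (hq k)
      change m₁.left.appTop (_ * _) = m₁.left.appTop (cst (Pc i).hom c * (inc i).left.appTop y - 1) at e1
      change m₂.left.appTop (_ * _) = m₂.left.appTop (cst (Pc k).hom c * (inc k).left.appTop y - 1) at e2
      rw [map_mul, map_sub, map_mul, map_one, ← cst_over m₁, ← cst_over m₁, ← xv_comp] at e1
      rw [map_mul, map_sub, map_mul, map_one, ← cst_over m₂, ← cst_over m₂, ← xv_comp] at e2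
      rw [e1, e2]
      congr 2
      change (pullback.fst (𝒱.f i) (𝒱.f k)).appTop ((𝒱.f i).appTop y) =
        (pullback.snd (𝒱.f i) (𝒱.f k)).appTop ((𝒱.f k).appTop y)
      rw [← CommRingCat.comp_apply, ← Scheme.Hom.comp_appTop, pullback.condition, Scheme.Hom.comp_appTop]
      rfl
    exact congrArg CommaMorphism.left this
  let ψ₀ : P₀ ⟶ qSch h dd := Over.homMk (𝒱.glueMorphisms (fun i => (q i).left) hagree) (by
    refine 𝒱.hom_ext _ _ fun i => ?_
    rw [← Category.assoc, 𝒱.ι_glueMorphisms]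
    exact Over.w (q i))
  have hψ₀ : cst P₀.hom lam * xv h dd ψ₀ = cst P₀.hom c * y - 1 := by
    refine section_ext 𝒱 _ _ fun i => ?_
    let m : Pc i ⟶ P₀ := Over.homMk (𝒱.f i) rfl
    have hm : m ≫ ψ₀ = q i := Over.OverMorphism.ext (𝒱.ι_glueMorphisms _ hagree i)
    change m.left.appTop _ = m.left.appTop _
    rw [map_mul, map_sub, map_mul, map_one, ← cst_over m, ← cst_over m, ← xv_comp, hm]
    exact hq i
  let E := fun (T : Over X) (Z : Over (Spec (CommRingCat.of R))) => (Over.mapPullbackAdj f).homEquiv T Z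
  let ψ : P ⟶ Red.bc f (qSch h dd) := E P _ ψ₀
  have hψ : a.act ≫ ψ = (GX f h ◁ ψ) ≫ (b.bc f).act := by
    let W := GX f h ⊗ P
    haveI : Flat ((Over.map f).obj W).hom := by
      change Flat ((pullback.fst (GX f h).hom P.hom ≫ (GX f h).hom) ≫ f)
      infer_instance
    let g₀ := (E W (GK R lam N h)).symm (fst _ _)
    let x₀ := (Over.map f).map (snd (GX f h) P) ≫ ψ₀
    have e0 : GX f h ◁ ψ = lift (fst _ _) (snd _ _ ≫ ψ) := by
      refine CartesianMonoidalCategory.hom_ext _ _ ?_ ?_ <;> simp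
    have eL : a.act ≫ ψ = E W _ ((Over.map f).map a.act ≫ ψ₀) := ((Over.mapPullbackAdj f).homEquiv_naturality_left _ _).symm
    have eR : (GX f h ◁ ψ) ≫ (b.bc f).act = E W _ (lift g₀ x₀ ≫ b.act) := by
      rw [← AlgGrp.Action.lift_homEquiv_bc_act f b, e0]
      congr 2
      · exact ((E W (GK R lam N h)).apply_symm_apply _).symm
      · exact ((Over.mapPullbackAdj f).homEquiv_naturality_left _ _).symm
    rw [eL, eR]
    congr 1
    refine xv_injective h dd (cancel_cst ((Over.map f).obj W).hom h.nzd ?_)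
    rw [hb, xv_comp, xv_comp]
    have e1 := congrArg ((Over.map f).map a.act).left.appTop hψ₀
    have e2 := congrArg ((Over.map f).map (snd (GX f h) P)).left.appTop hψ₀
    rw [map_mul, map_sub, map_mul, map_one, ← cst_over, ← cst_over] at e1 e2
    have e3 := hY.equiv W (fst _ _) (snd _ _)
    rw [lift_fst_snd, Category.id_comp, ← Category.comp_id a.act, hY.nat, ← Category.comp_id (snd (GX f h) P), hY.nat] at e3
    change ((Over.map f).map a.act).left.appTop y = (1 + cst ((Over.map f).obj W).hom lam * rv (B := AK R lam N h) g₀ AK.t) *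
      ((Over.map f).map (snd (GX f h) P)).left.appTop y at e3
    linear_combination e1 + cst ((Over.map f).obj W).hom c * e3 -
      (1 + cst ((Over.map f).obj W).hom lam * rv (B := AK R lam N h) g₀ AK.t) * e2
  have hbt := isTorsor h dd hN hdu b hb
  obtain ⟨Rc, hRc, hsec⟩ := hP.2
  haveI : IsIso ψ := TorsFpqc.isIso_of_equivariant a (b.bc f) hP.1 (NonAbH1.isPseudoTorsorSch_bc f hbt.1)
    ⟨Rc, Scheme.fppfPrecoverage_le_fpqcPrecoverage _ hRc, hsec⟩ ψ hψ
  exact ⟨qSch h dd, b, asIso ψ, hbt, hψ⟩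

end SekSuwaFiltLib
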