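import Groth.Prelude.Def_SekSuwa2
import Mathlib

/-! Congruences of `p^n`-th powers in flat algebras over a discrete valuation ring. -/

set_option autoImplicit false
set_option backward.isDefEq.respectTransparency false
set_option backward.isDefEq.respectTransparency.types false

universe u v

open SekSuwa

noncomputable section

namespace SekSuwaFiltLib

variable {R : Type u} [CommRing R] {lam : R} {N : ℕ}

theorem choose_mul_pow (h : DivCond lam N) {k : ℕ} (hk : 1 ≤ k) :
    (N.choose k : R) * lam ^ k = lam ^ N * (psiPoly lam N h).coeff k := by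
  have hc := congrArg (fun q => Polynomial.coeff q k) (psiPoly_spec h)
  simp only [Polynomial.coeff_C_mul, Polynomial.coeff_sub, Polynomial.coeff_one] at hc
  rw [hc, if_neg (by omega), sub_zero]
  have : (1 + Polynomial.C lam * Polynomial.X) ^ N =
      ((1 + Polynomial.X) ^ N).comp (Polynomial.C lam * Polynomial.X) := by simp
  rw [this, Polynomial.comp_C_mul_X_coeff, Polynomial.coeff_one_add_X_pow]

variable {A : Type v} [CommRing A] [Algebra R A]

theorem pow_add_mul (h : DivCond lam N) (w x : A) :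
    ∃ s, (w + algebraMap R A lam * x) ^ N = w ^ N + algebraMap R A lam ^ N * s := by
  refine ⟨∑ k ∈ Finset.range N, algebraMap R A ((psiPoly lam N h).coeff (k + 1)) * x ^ (k + 1) * w ^ (N - (k + 1)), ?_⟩
  rw [add_comm w, add_pow, Finset.sum_range_succ', add_comm]
  congr 1
  · simp
  · rw [Finset.mul_sum]
    refine Finset.sum_congr rfl fun k _ => ?_
    have e := congrArg (algebraMap R A) (choose_mul_pow h (k := k + 1) (by omega))
    rw [map_mul, map_mul, map_natCast, map_pow, map_pow] at e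
    linear_combination (x ^ (k + 1) * w ^ (N - (k + 1))) * e

variable [IsDomain R] {ϖ : R} {e : ℕ}

theorem pow_one_add (hϖ : ϖ ≠ 0) {v : Rˣ} (hlam : lam = v * ϖ ^ e) (hN : 0 < N) (h : DivCond lam N) {j : ℕ} (hj : j < e)
    (s : A) :
    ∃ s', (1 + algebraMap R A ϖ ^ j * s) ^ N =
      1 + algebraMap R A ϖ ^ (j * N) * (s ^ N + algebraMap R A ϖ * s') := by
  obtain ⟨M, rfl⟩ : ∃ M, N = M + 1 := ⟨N - 1, by omega⟩
  have hdiv : ∀ k ∈ Finset.range M, ∃ r : R, ((M + 1).choose (k + 1) : R) = ϖ ^ ((M - k) * e) * r := by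
    intro k hk
    have hk' := Finset.mem_range.1 hk
    refine ⟨(v : R) ^ (M - k) * (psiPoly lam (M + 1) h).coeff (k + 1), ?_⟩
    have e1 := choose_mul_pow h (k := k + 1) (by omega)
    refine mul_right_cancel₀ (pow_ne_zero (k + 1) (show lam ≠ 0 from hlam ▸ mul_ne_zero v.ne_zero (pow_ne_zero _ hϖ))) ?_
    have e2 : lam ^ (M + 1) = lam ^ (M - k) * lam ^ (k + 1) := by rw [← pow_add]; congr 1; omega
    have e3 : lam ^ (M - k) = (v : R) ^ (M - k) * ϖ ^ ((M - k) * e) := by
      rw [hlam, mul_pow, ← pow_mul, mul_comm (M - k) e]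
    rw [e1, e2, e3]
    ring
  choose! r hr using hdiv
  refine ⟨∑ k ∈ Finset.range M, algebraMap R A ϖ ^ ((M - k) * (e - j) - 1) * algebraMap R A (r k) * s ^ (k + 1), ?_⟩
  rw [add_comm (1 : A), add_pow, Finset.sum_range_succ', Finset.sum_range_succ, mul_add, Finset.mul_sum, Finset.mul_sum]
  have hterm : ∀ k ∈ Finset.range M,
      (algebraMap R A ϖ ^ j * s) ^ (k + 1) * 1 ^ (M + 1 - (k + 1)) * ((M + 1).choose (k + 1) : A) =
      algebraMap R A ϖ ^ (j * (M + 1)) *
        (algebraMap R A ϖ * (algebraMap R A ϖ ^ ((M - k) * (e - j) - 1) * algebraMap R A (r k) * s ^ (k + 1))) := by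
    intro k hk
    have hk' := Finset.mem_range.1 hk
    rw [← map_natCast (algebraMap R A), hr k hk, map_mul, map_pow, mul_pow, one_pow, mul_one, ← pow_mul]
    obtain ⟨d, rfl⟩ : ∃ d, e = j + (d + 1) := ⟨e - j - 1, by omega⟩
    obtain ⟨m, rfl⟩ : ∃ m, M = k + (m + 1) := ⟨M - k - 1, by omega⟩
    simp only [show k + (m + 1) - k = m + 1 by omega, show j + (d + 1) - j = d + 1 by omega,
      show (m + 1) * (d + 1) - 1 = m * d + m + d by ring_nf; omega]
    ring
  rw [Finset.sum_congr rfl hterm]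
  simp only [Nat.choose_self, Nat.cast_one, mul_one, one_pow, Nat.choose_zero_right, pow_zero]
  rw [mul_pow, ← pow_mul]
  ring

theorem congr_one [Module.Flat R A] (hϖ : ϖ ≠ 0) {v : Rˣ} (hlam : lam = v * ϖ ^ e) (hN : 0 < N) (h : DivCond lam N)
    (hred : ∀ s : A, algebraMap R A ϖ ∣ s ^ N → algebraMap R A ϖ ∣ s) (w : A)
    (hw : algebraMap R A lam ^ N ∣ w ^ N - 1) : algebraMap R A lam ∣ w - 1 := by
  have hv : IsUnit (algebraMap R A (v : R)) := v.isUnit.map _
  have key : ∀ j, j ≤ e → algebraMap R A ϖ ^ j ∣ w - 1 := by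
    intro j
    induction j with
    | zero => simp
    | succ j ih =>
      intro hje
      obtain ⟨s, hs⟩ := ih (by omega)
      obtain ⟨s', hs'⟩ := pow_one_add (A := A) hϖ hlam hN h (show j < e by omega) s
      have hdv : algebraMap R A ϖ ^ (j * N + 1) ∣ w ^ N - 1 := by
        refine dvd_trans ?_ hw
        rw [hlam, map_mul, map_pow, mul_pow, ← pow_mul]
        refine Dvd.dvd.mul_left (pow_dvd_pow _ ?_) _
        have := Nat.mul_le_mul_right N (show j + 1 ≤ e from hje)
        rw [Nat.succ_mul] at this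
        omega
      obtain ⟨z, hz⟩ := hdv
      rw [show w = 1 + algebraMap R A ϖ ^ j * s by rw [← hs]; ring, hs', add_sub_cancel_left, pow_succ, mul_assoc] at hz
      have hc : IsSMulRegular A (algebraMap R A ϖ ^ (j * N)) := by
        rw [← map_pow]
        intro a b hab
        exact (Module.Flat.isSMulRegular_of_nonZeroDivisors (M := A)
          (mem_nonZeroDivisors_of_ne_zero (pow_ne_zero (j * N) hϖ))) (by simpa [Algebra.smul_def] using hab)
      have h1 := hc hz
      obtain ⟨y, hy⟩ := hred s ⟨z - s', by linear_combination h1⟩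
      exact ⟨y, by rw [hs, hy, pow_succ]; ring⟩
  rw [hlam, map_mul, map_pow]
  exact (IsUnit.mul_left_dvd hv).2 (key e le_rfl)

theorem cancel_pow [Module.Flat R A] (hϖ : ϖ ≠ 0) (m : ℕ) {a b : A}
    (hab : algebraMap R A ϖ ^ m * a = algebraMap R A ϖ ^ m * b) : a = b :=
  (Module.Flat.isSMulRegular_of_nonZeroDivisors (M := A) (mem_nonZeroDivisors_of_ne_zero (pow_ne_zero m hϖ)))
    (by simpa [Algebra.smul_def] using hab)

theorem exists_unit [IsDiscreteValuationRing R] (p : ℕ) [Fact p.Prime] [CharP (IsLocalRing.ResidueField R) p]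
    [PerfectField (IsLocalRing.ResidueField R)] (n : ℕ) (hirr : Irreducible ϖ) {v : Rˣ} (hlam : lam = v * ϖ ^ e)
    (hNp : N = p ^ n) (h : DivCond lam N) [Module.Flat R A]
    (hne : ¬ IsUnit (algebraMap R A ϖ))
    (hred : ∀ s : A, algebraMap R A ϖ ∣ s ^ N → algebraMap R A ϖ ∣ s) (u : Rˣ) (w : A)
    (hw : algebraMap R A lam ^ N ∣ w ^ N - algebraMap R A u) :
    ∃ c : Rˣ, lam ^ N ∣ (u : R) * (c : R) ^ N - 1 := by
  have hϖ : ϖ ≠ 0 := hirr.ne_zero
  have hN : 0 < N := hNp ▸ pow_pos (Fact.out : p.Prime).pos n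
  have hdvdR : ∀ r : R, algebraMap R A ϖ ∣ algebraMap R A r → ϖ ∣ r := by
    intro r hr
    by_contra hn
    have : IsUnit r := by
      by_contra hu
      exact hn (Ideal.mem_span_singleton.1 ((IsDiscreteValuationRing.irreducible_iff_uniformizer _).1 hirr ▸ hu))
    exact hne (isUnit_of_dvd_unit hr (this.map _))
  suffices ∀ m, m ≤ e * N → ∃ c : Rˣ, ϖ ^ m ∣ (u : R) * (c : R) ^ N - 1 by
    obtain ⟨c, hc⟩ := this (e * N) le_rfl
    refine ⟨c, ?_⟩
    rw [hlam, mul_pow, ← pow_mul]
    exact (IsUnit.mul_left_dvd (v.isUnit.pow N)).2 hc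
  intro m
  induction m with
  | zero => exact fun _ => ⟨1, by simp⟩
  | succ m ih =>
    intro hm
    obtain ⟨c, r, hr⟩ := ih (by omega)
    by_cases hrϖ : ϖ ∣ r
    · obtain ⟨r', rfl⟩ := hrϖ
      exact ⟨c, r', by rw [hr, pow_succ]; ring⟩
    let w' := algebraMap R A c * w
    obtain ⟨z, hz⟩ : algebraMap R A ϖ ^ (e * N) ∣ w' ^ N - algebraMap R A ((u : R) * (c : R) ^ N) := by
      have : w' ^ N - algebraMap R A ((u : R) * (c : R) ^ N) = algebraMap R A c ^ N * (w ^ N - algebraMap R A u) := by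
        simp only [w', mul_pow, map_mul, map_pow]; ring
      rw [this]
      refine Dvd.dvd.mul_left (dvd_trans ?_ hw) _
      rw [hlam, map_mul, map_pow, mul_pow, ← pow_mul]
      exact Dvd.intro_left _ rfl
    obtain ⟨q, hq⟩ : ∃ q, e * N = m + (q + 1) := ⟨e * N - m - 1, by omega⟩
    -- `w'^N - 1 = ϖ^m (r + ϖ z')`
    have hw' : w' ^ N - 1 = algebraMap R A ϖ ^ m * (algebraMap R A r + algebraMap R A ϖ * (algebraMap R A ϖ ^ q * z)) := by
      have e1 := congrArg (algebraMap R A) hr
      rw [map_sub, map_one, map_mul _ (ϖ ^ m), map_pow] at e1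
      rw [hq, pow_add, pow_succ] at hz
      linear_combination hz + e1
    have hrA : ¬ algebraMap R A ϖ ∣ algebraMap R A r := fun hh => hrϖ (hdvdR r hh)
    have hP : algebraMap R A ϖ ^ 0 ∣ w' - 1 := by simp
    classical
    obtain ⟨j, hje, s, hs, hsn⟩ : ∃ j, j < e ∧ ∃ s, w' - 1 = algebraMap R A ϖ ^ j * s ∧ ¬ algebraMap R A ϖ ∣ s := by
      by_contra hcon
      simp only [not_exists, not_and, not_not] at hcon
      have hall : ∀ j, j ≤ e → algebraMap R A ϖ ^ j ∣ w' - 1 := by
        intro j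
        induction j with
        | zero => simp
        | succ j ih' =>
          intro hje
          obtain ⟨s, hs⟩ := ih' (by omega)
          obtain ⟨y, hy⟩ := hcon j (by omega) s hs
          exact ⟨y, by rw [hs, hy, pow_succ]; ring⟩
      obtain ⟨x, hx⟩ := hall e le_rfl
      obtain ⟨y, hy⟩ := pow_add_mul h (1 : A) (algebraMap R A ((v⁻¹ : Rˣ) : R) * x)
      have hx' : algebraMap R A lam * (algebraMap R A ((v⁻¹ : Rˣ) : R) * x) = w' - 1 := by
        rw [hx, ← mul_assoc, ← map_mul, hlam, mul_assoc, mul_comm (ϖ ^ e), ← mul_assoc, Units.mul_inv, one_mul,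
          map_pow]
      rw [hx', add_sub_cancel, one_pow] at hy
      refine hrA ⟨algebraMap R A ϖ ^ q * algebraMap R A (v : R) ^ N * y - algebraMap R A ϖ ^ q * z, ?_⟩
      refine cancel_pow hϖ m ?_
      have hy' : w' ^ N - 1 = algebraMap R A lam ^ N * y := by rw [hy]; ring
      rw [hw', hlam, map_mul, map_pow, mul_pow, ← pow_mul, hq, pow_add, pow_succ] at hy'
      linear_combination hy'
    obtain ⟨s', hs'⟩ := pow_one_add (A := A) hϖ hlam hN h hje s
    rw [show w' = 1 + algebraMap R A ϖ ^ j * s by rw [← hs]; ring, hs', add_sub_cancel_left] at hw'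
    have hjm : j * N = m := by
      rcases lt_trichotomy (j * N) m with hlt | heq | hgt
      · exfalso
        obtain ⟨d, rfl⟩ : ∃ d, m = j * N + (d + 1) := ⟨m - j * N - 1, by omega⟩
        rw [pow_add, mul_assoc] at hw'
        have h1 := cancel_pow hϖ _ hw'
        refine hsn (hred s ⟨algebraMap R A ϖ ^ d *
          (algebraMap R A r + algebraMap R A ϖ * (algebraMap R A ϖ ^ q * z)) - s', ?_⟩)
        rw [pow_succ] at h1
        linear_combination h1
      · exact heq
      · exfalso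
        obtain ⟨d, hd⟩ : ∃ d, j * N = m + (d + 1) := ⟨j * N - m - 1, by omega⟩
        rw [hd, pow_add, mul_assoc] at hw'
        have h1 := cancel_pow hϖ _ hw'
        refine hrA ⟨algebraMap R A ϖ ^ d * (s ^ N + algebraMap R A ϖ * s') - algebraMap R A ϖ ^ q * z, ?_⟩
        rw [pow_succ] at h1
        linear_combination -h1
    letI : PerfectRing (IsLocalRing.ResidueField R) p := PerfectField.toPerfectRing p
    obtain ⟨t₀, ht₀⟩ := (bijective_iterateFrobenius (IsLocalRing.ResidueField R) p n).2 (IsLocalRing.residue R r)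
    obtain ⟨t, rfl⟩ := IsLocalRing.residue_surjective t₀
    rw [iterateFrobenius_def, ← hNp, ← map_pow] at ht₀
    obtain ⟨d, hd⟩ : ϖ ∣ r - t ^ N := by
      rw [← Ideal.mem_span_singleton, ← (IsDiscreteValuationRing.irreducible_iff_uniformizer _).1 hirr,
        ← IsLocalRing.residue_eq_zero_iff, map_sub, ht₀, sub_self]
    obtain ⟨s'', hs''⟩ := pow_one_add (A := R) hϖ hlam hN h hje t
    simp only [Algebra.algebraMap_self, RingHom.id_apply, hjm] at hs''
    have hdiff : (u : R) * (c : R) ^ N - (1 + ϖ ^ j * t) ^ N = ϖ ^ (m + 1) * (d - s'') := by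
      rw [hs'', pow_succ]
      linear_combination hr + ϖ ^ m * hd
    have hau : IsUnit ((1 + ϖ ^ j * t) ^ N) := by
      by_contra hn'
      have h1 : (1 + ϖ ^ j * t) ^ N ∈ IsLocalRing.maximalIdeal R := hn'
      have h2 : ϖ ^ (m + 1) * (d - s'') ∈ IsLocalRing.maximalIdeal R :=
        Ideal.mul_mem_right _ _ (Ideal.pow_mem_of_mem _ ((IsLocalRing.mem_maximalIdeal _).2 hirr.not_isUnit) _ (by omega))
      have h3 : (u : R) * (c : R) ^ N ∈ IsLocalRing.maximalIdeal R := by
        rw [show (u : R) * (c : R) ^ N = (1 + ϖ ^ j * t) ^ N + ϖ ^ (m + 1) * (d - s'') by rw [← hdiff]; ring]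
        exact add_mem h1 h2
      exact h3 (u.isUnit.mul (c.isUnit.pow N))
    obtain ⟨b, hb⟩ := (isUnit_pow_iff hN.ne').1 hau
    refine ⟨c * b⁻¹, (↑b⁻¹ : R) ^ N * (d - s''), ?_⟩
    have hbb : (↑b⁻¹ : R) ^ N * (b : R) ^ N = 1 := by rw [← mul_pow, Units.inv_mul, one_pow]
    rw [← hb] at hdiff
    rw [Units.val_mul, mul_pow]
    linear_combination (↑b⁻¹ : R) ^ N * hdiff + hbb

end SekSuwaFiltLib
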