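import Groth.Agent.SekSuwaGen.Main
import Mathlib

/-! Functions of points of affine groups over `Spec R`. -/

set_option autoImplicit false
set_option backward.isDefEq.respectTransparency false
set_option backward.isDefEq.respectTransparency.types false

universe u

open CategoryTheory CategoryTheory.Limits AlgebraicGeometry SekSuwa SekSuwaMonoLib MonoidalCategory
  CartesianMonoidalCategory
open scoped TensorProduct MonObj

noncomputable section

namespace SekSuwaFiltLib

variable {R : Type u} [CommRing R]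

/-- An affine scheme over `R`. -/
abbrev spR (B : Type u) [CommRing B] [Algebra R B] : Over (Spec (CommRingCat.of R)) :=
  (Spec (CommRingCat.of B)).asOver (Spec (CommRingCat.of R))

variable {B : Type u} [CommRing B] [Algebra R B] {T T' : Over (Spec (CommRingCat.of R))}

/-- The functions of a point. -/
def rv (g : T ⟶ spR B) : B →+* Γ(T.left, ⊤) := g.left.appTop.hom.comp (Scheme.ΓSpecIso (CommRingCat.of B)).inv.hom

theorem rv_algebraMap (g : T ⟶ spR B) (r : R) : rv g (algebraMap R B r) = cst T.hom r := by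
  have hw : g.left ≫ Spec.map (CommRingCat.ofHom (algebraMap R B)) = T.hom := Over.w g
  conv_rhs => rw [← hw]
  exact (appTop_specMap (CommRingCat.ofHom (algebraMap R B)) g.left r).symm

theorem rv_injective : Function.Injective (rv (T := T) (B := B)) := by
  intro g g' h
  haveI : IsAffine (spR (R := R) B).left := isAffine_Spec _
  refine Over.OverMorphism.ext (ext_of_isAffine ?_)
  rw [← cancel_epi (Scheme.ΓSpecIso (CommRingCat.of B)).inv]
  exact CommRingCat.hom_ext h

theorem exists_rv_eq (φ : B →+* Γ(T.left, ⊤)) (hφ : ∀ r, φ (algebraMap R B r) = cst T.hom r) :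
    ∃ g : T ⟶ spR B, rv g = φ := by
  have hw : SekSuwaGen.toAff (CommRingCat.ofHom φ) ≫ (spR (R := R) B).hom = T.hom := by
    change _ ≫ Spec.map (CommRingCat.ofHom (algebraMap R B)) = _
    rw [SekSuwaGen.toAff_comp, ← SekSuwaGen.eq_toAff T.hom]
    exact congrArg SekSuwaGen.toAff (CommRingCat.hom_ext (RingHom.ext hφ))
  exact ⟨Over.homMk (SekSuwaGen.toAff (CommRingCat.ofHom φ)) hw,
    congrArg CommRingCat.Hom.hom (SekSuwaGen.ψ_toAff (CommRingCat.ofHom φ))⟩

theorem rv_comp (m : T' ⟶ T) (g : T ⟶ spR B) (b : B) : rv (m ≫ g) b = m.left.appTop (rv g b) := by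
  change (m.left ≫ g.left).appTop _ = _
  rw [Scheme.Hom.comp_appTop]
  rfl

theorem cst_over (m : T' ⟶ T) (r : R) : cst T'.hom r = m.left.appTop (cst T.hom r) := by
  conv_lhs => rw [← Over.w m]
  change (m.left ≫ T.hom).appTop _ = _
  rw [Scheme.Hom.comp_appTop]
  rfl

theorem rv_mul_apply {B : Type u} [CommRing B] [HopfAlgebra R B] [IsAffine T.left] (g g' : T ⟶ spR B) (b : B) :
    letI : Algebra R Γ(T.left, ⊤) := (cst T.hom).toAlgebra
    rv (g * g') b = (WithConv.toConv { rv g with commutes' := rv_algebraMap g } *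
      WithConv.toConv { rv g' with commutes' := rv_algebraMap g' } : WithConv (B →ₐ[R] Γ(T.left, ⊤))).ofConv b := by
  letI : Algebra R Γ(T.left, ⊤) := (cst T.hom).toAlgebra
  let e : (Spec (CommRingCat.of Γ(T.left, ⊤))).asOver (Spec (CommRingCat.of R)) ⟶ T :=
    Over.homMk T.left.isoSpec.inv (by
      change T.left.isoSpec.inv ≫ T.hom = Spec.map (CommRingCat.ofHom (cst T.hom))
      rw [Iso.inv_comp_eq]
      exact (SekSuwaGen.eq_toAff T.hom).symm)
  have key : ∀ g : T ⟶ spR B, Spec.mapMulEquiv (WithConv.toConv { rv g with commutes' := rv_algebraMap g }) = e ≫ g := by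
    intro g
    apply Over.OverMorphism.ext
    change Spec.map (CommRingCat.ofHom (rv g)) = T.left.isoSpec.inv ≫ g.left
    rw [Iso.eq_inv_comp]
    exact SekSuwaGen.eq_toAff g.left
  have h : (WithConv.toConv { rv (g * g') with commutes' := rv_algebraMap (g * g') } :
      WithConv (B →ₐ[R] Γ(T.left, ⊤))) = WithConv.toConv { rv g with commutes' := rv_algebraMap g } *
      WithConv.toConv { rv g' with commutes' := rv_algebraMap g' } := by
    apply Spec.mapMulEquiv.injective
    rw [map_mul, key, key, key, MonObj.comp_mul]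
  exact congrArg (fun z : WithConv (B →ₐ[R] Γ(T.left, ⊤)) => z.ofConv b) h

section AK

variable {lam : R} {N : ℕ} {h : DivCond lam N}

theorem isAffine_GK_tensor : IsAffine (GK R lam N h ⊗ GK R lam N h).left := by
  haveI : IsAffine (GK R lam N h).left := isAffine_Spec _
  change IsAffine (pullback (GK R lam N h).hom (GK R lam N h).hom)
  infer_instance

theorem tv_mul (g g' : T ⟶ GK R lam N h) :
    rv (B := AK R lam N h) (g * g') AK.t = rv (B := AK R lam N h) g AK.t + rv (B := AK R lam N h) g' AK.t +
      cst T.hom lam * rv (B := AK R lam N h) g AK.t * rv (B := AK R lam N h) g' AK.t := by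
  let W := GK R lam N h ⊗ GK R lam N h
  let a : W ⟶ GK R lam N h := fst _ _
  let b : W ⟶ GK R lam N h := snd _ _
  have h0 : rv (B := AK R lam N h) (a * b) AK.t = rv (B := AK R lam N h) a AK.t + rv (B := AK R lam N h) b AK.t +
      cst W.hom lam * rv (B := AK R lam N h) a AK.t * rv (B := AK R lam N h) b AK.t := by
    haveI : IsAffine W.left := isAffine_GK_tensor
    letI : Algebra R Γ(W.left, ⊤) := (cst W.hom).toAlgebra
    rw [rv_mul_apply (B := AK R lam N h), AlgHom.convMul_def]
    simp [AK.comul_t, Algebra.smul_def, mul_assoc]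
    rw [rv_algebraMap (B := AK R lam N h) a lam]
  let m : T ⟶ W := lift g g'
  have e : g * g' = m ≫ (a * b) := by rw [MonObj.comp_mul, lift_fst, lift_snd]
  have ea : m ≫ a = g := lift_fst _ _
  have eb : m ≫ b = g' := lift_snd _ _
  rw [e, rv_comp (B := AK R lam N h), h0, map_add, map_add, map_mul, map_mul, ← rv_comp (B := AK R lam N h),
    ← rv_comp (B := AK R lam N h), ← cst_over m lam, ea, eb]

theorem tv_one : rv (B := AK R lam N h) (1 : T ⟶ GK R lam N h) AK.t = 0 := by
  have e := tv_mul (1 : T ⟶ GK R lam N h) 1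
  rw [_root_.one_mul] at e
  have hu : IsUnit (1 + cst T.hom lam * rv (B := AK R lam N h) (1 : T ⟶ GK R lam N h) AK.t) := by
    have e1 : (1 + lam • AK.t : AK R lam N h) * AK.inv = 1 := by
      have := congrArg (AK.mkHom R lam N h) (A.u_mul_inv (R := R) (lam := lam))
      rw [map_mul, map_one, A.u, map_add, map_one, map_smul] at this
      exact this
    have e2 := (IsUnit.of_mul_eq_one _ e1).map (rv (B := AK R lam N h) (1 : T ⟶ GK R lam N h))
    rwa [map_add, map_one, Algebra.smul_def, map_mul, rv_algebraMap] at e2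
  refine hu.mul_left_cancel ?_
  rw [mul_zero]
  linear_combination -e

theorem tv_root (g : T ⟶ GK R lam N h) :
    (psiPoly lam N h).eval₂ (cst T.hom) (rv (B := AK R lam N h) g AK.t) = 0 := by
  have e := congrArg (rv (B := AK R lam N h) g) (AK.aeval_t (R := R) (lam := lam) (N := N) (h := h))
  rw [map_zero, Polynomial.aeval_def, Polynomial.hom_eval₂] at e
  rwa [show (rv (B := AK R lam N h) g).comp (algebraMap R (AK R lam N h)) = cst T.hom from
    RingHom.ext (rv_algebraMap (B := AK R lam N h) g)] at e

end AK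

section Diag

variable {N : ℕ}

/-- The character of a point of `μ_N`. -/
def chi (g : T ⟶ Red.diag R (ZMod N)) : Γ(T.left, ⊤) :=
  rv (B := MonoidAlgebra R (Multiplicative (ZMod N))) g (MonoidAlgebra.single (Multiplicative.ofAdd (1 : ZMod N)) 1)

theorem chi_comp (m : T' ⟶ T) (g : T ⟶ Red.diag R (ZMod N)) : chi (m ≫ g) = m.left.appTop (chi g) := rv_comp m g _

theorem chi_pow (g : T ⟶ Red.diag R (ZMod N)) : chi g ^ N = 1 := by
  rw [chi, ← map_pow, MonoidAlgebra.single_pow, one_pow, ← ofAdd_nsmul, nsmul_eq_mul, mul_one, ZMod.natCast_self,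
    ofAdd_zero]
  exact map_one _

theorem chi_mul [IsAffine T.left] (g g' : T ⟶ Red.diag R (ZMod N)) : chi (g * g') = chi g * chi g' := by
  letI : Algebra R Γ(T.left, ⊤) := (cst T.hom).toAlgebra
  rw [chi, rv_mul_apply (B := MonoidAlgebra R (Multiplicative (ZMod N))), AlgHom.convMul_def]
  simp [chi, MonoidAlgebra.comul_single]

theorem chi_alphaN {lam : R} {h : DivCond lam N} (g : T ⟶ GK R lam N h) :
    chi (g ≫ alphaN R lam N h) = 1 + cst T.hom lam * rv (B := AK R lam N h) g AK.t := by
  change (g.left ≫ Spec.map (CommRingCat.ofHom (alphaNHom R lam N h : MonoidAlgebra R (Multiplicative (ZMod N)) →+*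
    AK R lam N h))).appTop _ = _
  refine (appTop_specMap _ g.left _).trans ?_
  change rv (B := AK R lam N h) g (alphaNHom R lam N h _) = _
  rw [alphaNHom_single_one, map_add, map_one, Algebra.smul_def, map_mul, rv_algebraMap]

end Diag

end SekSuwaFiltLib
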